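import Groth.Agent.Lib.Helper23.CIProj.LamIso

/-!
# Helper23 — CIProj.UnitStalk: `λ` as an adjunct, and the unit `A ⟶ f_* f^* A` on stalks
-/

set_option autoImplicit false
universe u
open CategoryTheory CategoryTheory.Limits TopologicalSpace Opposite AlgebraicGeometry

namespace Groth.Agent.Lib.Helper23.CIProj
open Groth.Agent.Lib.Helper16.Stk

variable {X Y : Scheme.{u}} (f : X ⟶ Y) (x : X)

lemma toP_unit (N : X.Modules) :
    DCoh.toP.map ((stkSkyAdj x).unit.app N) = skyUnit (R := X.presheaf) x (tP N) := by
  have h := Adjunction.map_restrictFullyFaithful_unit_app (pstSkyAdj x) (iC := DCoh.toP (X := X))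
    (iD := 𝟭 (ModuleCat.{u} (X.presheaf.stalk x)))
    (Functor.FullyFaithful.ofFullyFaithful _) (Functor.FullyFaithful.id _)
    (L := stk x) (R := skyFunctor x)
    ((stalkFunctorIso x).symm ≪≫ (Functor.rightUnitor _).symm)
    (Functor.leftUnitor _ ≪≫ Iso.refl _) N
  refine h.trans ?_
  apply (PresheafOfModules.toPresheaf _).map_injective
  ext U s
  funext hh
  rfl

/-- `λ` corresponds, under the adjunction between stalks and skyscrapers, to `f_*` of the unit. -/
lemma unit_comp_sky_map_lam (M : X.Modules) :
    (stkSkyAdj (f x)).unit.app ((Scheme.Modules.pushforward f).obj M) ≫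
        (skyFunctor (f x)).map (lam f x M) =
      (Scheme.Modules.pushforward f).map ((stkSkyAdj x).unit.app M) ≫
        (pushSkyNatIso f x).hom.app ((stk x).obj M) := by
  apply (DCoh.toP (X := Y)).map_injective
  rw [Functor.map_comp, Functor.map_comp, toP_unit]
  have h2 : DCoh.toP.map ((pushSkyNatIso f x).hom.app ((stk x).obj M)) =
      (pushSkyPIso f x ((stk x).obj M)).hom := toP_map_pushSkyIso_hom f x _
  rw [h2]
  apply (PresheafOfModules.toPresheaf _).map_injective
  ext U s
  funext hh
  change (lam f x M).hom (gm (f x) (pushP f M) U.unop hh.down s) =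
    (DCoh.toP.map ((stkSkyAdj x).unit.app M)).app (op (f ⁻¹ᵁ U.unop)) (toSec f M U.unop s)
      ⟨memPre hh.down⟩
  rw [toP_unit]
  exact lam_gm f x M U.unop hh.down s

/-- the unit `A ⟶ f_* f^* A` on stalks at `f x`, followed by `λ` and the description of the stalks of `f^* A`,
is the unit `A_{f x} ⟶ A_{f x} ⊗ O_{X,x}` of extension of scalars. -/
theorem stk_unit_formula (A : Y.Modules) :
    (stk (f x)).map ((Scheme.Modules.pullbackPushforwardAdjunction f).unit.app A) ≫
        lam f x ((Scheme.Modules.pullback f).obj A) ≫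
          (ModuleCat.restrictScalars.{u} (φs f x)).map ((pullbackStkIso f x).hom.app A) =
      (ModuleCat.extendRestrictScalarsAdj.{u, u, u} (φs f x)).unit.app ((stk (f x)).obj A) := by
  apply ((stkSkyAdj (f x)).homEquiv _ _).injective
  rw [Adjunction.homEquiv_unit, Adjunction.homEquiv_unit]
  have h1 := Adjunction.unit_leftAdjointUniq_hom_app
    (((Scheme.Modules.pullbackPushforwardAdjunction f).comp (stkSkyAdj x)).ofNatIsoRight
      (pushSkyNatIso f x))
    ((stkSkyAdj (f x)).comp (ModuleCat.extendRestrictScalarsAdj.{u, u, u} (φs f x))) A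
  rw [Adjunction.comp_unit_app] at h1
  refine Eq.trans ?_ h1
  rw [Adjunction.ofNatIsoRight_unit, NatTrans.comp_app, Adjunction.comp_unit_app,
    Functor.whiskerLeft_app]
  simp only [Functor.map_comp, Category.assoc]
  have h2 := (stkSkyAdj (f x)).unit.naturality
    ((Scheme.Modules.pullbackPushforwardAdjunction f).unit.app A)
  have h3 := unit_comp_sky_map_lam f x ((Scheme.Modules.pullback f).obj A)
  simp only [Functor.id_obj, Functor.id_map, Functor.comp_obj, Functor.comp_map] at h2 h3 ⊢
  rw [← reassoc_of% h2, reassoc_of% h3]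
  rfl

end Groth.Agent.Lib.Helper23.CIProj
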