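import Mathlib
import Groth.Agent.Lib.Helper4.UnitKer
import Groth.Agent.Lib.Helper16.Stk2

/-!
# Helper23 — CIProj.Alg: algebra of a surjective ring map `R → S` (tensor products over `R` of `S`-modules)
-/

set_option autoImplicit false
universe u
open TensorProduct

namespace Groth.Agent.Lib.Helper23.CIProj

section Unbundled

variable {R : Type*} [CommRing R] (I : Ideal R)
  {A E N : Type*} [AddCommGroup A] [Module R A] [AddCommGroup E] [Module R E]
  [AddCommGroup N] [Module R N]

lemma tmul_eq_zero_of_mem_smul_top (hN : ∀ r ∈ I, ∀ n : N, r • n = 0) (a : A)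
    (ha : a ∈ I • (⊤ : Submodule R A)) (n : N) : a ⊗ₜ[R] n = 0 := by
  refine Submodule.smul_induction_on (p := fun a => a ⊗ₜ[R] n = 0) ha ?_ ?_
  · intro r hr b _
    rw [TensorProduct.smul_tmul, hN r hr, TensorProduct.tmul_zero]
  · intro x y hx hy
    rw [TensorProduct.add_tmul, hx, hy, add_zero]

variable (u : A →ₗ[R] E)

lemma rTensor_bijective_of (hu : Function.Surjective u)
    (hk : LinearMap.ker u ≤ I • (⊤ : Submodule R A)) (hN : ∀ r ∈ I, ∀ n : N, r • n = 0) :
    Function.Bijective (u.rTensor N) := by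
  refine ⟨?_, LinearMap.rTensor_surjective N hu⟩
  rw [injective_iff_map_eq_zero]
  intro t ht
  have hex := rTensor_exact N (LinearMap.exact_subtype_ker_map u) hu
  obtain ⟨t', rfl⟩ := (hex t).1 ht
  have hz : (LinearMap.ker u).subtype.rTensor N = 0 := by
    apply TensorProduct.ext'
    intro k n
    rw [LinearMap.rTensor_tmul, LinearMap.zero_apply]
    exact tmul_eq_zero_of_mem_smul_top I hN _ (hk k.2) n
  rw [hz, LinearMap.zero_apply]

lemma lTensor_bijective_of (hu : Function.Surjective u)
    (hk : LinearMap.ker u ≤ I • (⊤ : Submodule R A)) (hN : ∀ r ∈ I, ∀ n : N, r • n = 0) :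
    Function.Bijective (u.lTensor N) := by
  have h := rTensor_bijective_of I u hu hk hN
  have e : u.lTensor N = (TensorProduct.comm R E N).toLinearMap ∘ₗ u.rTensor N ∘ₗ
      (TensorProduct.comm R N A).toLinearMap := by
    apply TensorProduct.ext'
    intro n a
    simp
  rw [e]
  exact (TensorProduct.comm R E N).bijective.comp (h.comp (TensorProduct.comm R N A).bijective)

end Unbundled

section Bundled

open CategoryTheory MonoidalCategory

variable {R S : Type u} [CommRing R] [CommRing S] (φ : R →+* S)

/-- the unit `B ⟶ S ⊗_R B`. -/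
noncomputable abbrev un (B : ModuleCat.{u} R) :
    B ⟶ (ModuleCat.restrictScalars.{u} φ).obj ((ModuleCat.extendScalars.{u, u, u} φ).obj B) :=
  (ModuleCat.extendRestrictScalarsAdj.{u, u, u} φ).unit.app B

/-- `B` is killed by the kernel of `φ`. -/
def Killed (B : ModuleCat.{u} R) : Prop := ∀ r ∈ RingHom.ker φ, ∀ b : B, r • b = 0

variable {φ}

lemma killed_restrictScalars (N : ModuleCat.{u} S) :
    Killed φ ((ModuleCat.restrictScalars.{u} φ).obj N) := by
  intro r hr n
  change φ r • (show N from n) = 0
  rw [(RingHom.mem_ker).1 hr, zero_smul]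

lemma killed_of_iso {B B' : ModuleCat.{u} R} (e : B ≅ B') (h : Killed φ B) : Killed φ B' := by
  intro r hr b
  have : b = e.hom.hom (e.inv.hom b) := by
    change b = (e.inv ≫ e.hom).hom b
    rw [e.inv_hom_id]
    rfl
  rw [this, ← map_smul, h r hr, map_zero]

lemma killed_tensor_right (A : ModuleCat.{u} R) {B : ModuleCat.{u} R} (h : Killed φ B) :
    Killed φ (A ⊗ B) := by
  intro r hr t
  induction t using TensorProduct.induction_on with
  | zero => exact smul_zero r
  | tmul a b =>
    change r • (a ⊗ₜ[R] b) = 0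
    rw [← TensorProduct.tmul_smul, h r hr, TensorProduct.tmul_zero]
  | add x y hx hy => rw [smul_add, hx, hy, add_zero]

lemma killed_tensor_left (A : ModuleCat.{u} R) {B : ModuleCat.{u} R} (h : Killed φ B) :
    Killed φ (B ⊗ A) := by
  intro r hr t
  induction t using TensorProduct.induction_on with
  | zero => exact smul_zero r
  | tmul b a =>
    change r • (b ⊗ₜ[R] a) = 0
    rw [TensorProduct.smul_tmul', h r hr, TensorProduct.zero_tmul]
  | add x y hx hy => rw [smul_add, hx, hy, add_zero]

variable (hφ : Function.Surjective φ)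
include hφ

lemma un_surjective (B : ModuleCat.{u} R) : Function.Surjective (un φ B).hom := by
  intro t
  induction t using TensorProduct.induction_on with
  | zero => exact ⟨0, map_zero _⟩
  | tmul s b =>
    obtain ⟨r, rfl⟩ := hφ s
    refine ⟨r • b, ?_⟩
    rw [ModuleCat.extendRestrictScalarsAdj_unit_app_apply]
    letI : Module R S := Module.compHom S φ
    have h1 : (φ r) ⊗ₜ[R] (b : B) = (r • (1 : S)) ⊗ₜ[R] (b : B) := by
      congr 1
      change φ r = φ r * 1
      rw [mul_one]
    exact (h1.trans (TensorProduct.smul_tmul r (1 : S) (b : B))).symm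
  | add x y hx hy =>
    obtain ⟨a, rfl⟩ := hx
    obtain ⟨b, rfl⟩ := hy
    exact ⟨a + b, map_add _ _ _⟩

lemma ker_un_le (B : ModuleCat.{u} R) :
    LinearMap.ker (un φ B).hom ≤ (RingHom.ker φ) • (⊤ : Submodule R B) := by
  intro b hb
  letI := φ.toAlgebra
  have h : (1 : S) ⊗ₜ[R] (b : B) = 0 := by
    have := LinearMap.mem_ker.1 hb
    rw [ModuleCat.extendRestrictScalarsAdj_unit_app_apply] at this
    exact this
  exact Groth.Agent.Lib.Helper4.UnitKer.mem_smul_top_of_one_tmul_eq_zero (R := R) (S := S) hφ b h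

omit hφ in
lemma eq_zero_of_mem_smul_top' {B : ModuleCat.{u} R} (h : Killed φ B) (b : B)
    (hb : b ∈ (RingHom.ker φ) • (⊤ : Submodule R B)) : b = 0 := by
  refine Submodule.smul_induction_on (p := fun b => b = 0) hb ?_ ?_
  · intro r hr c _
    exact h r hr c
  · intro x y hx hy
    rw [hx, hy, add_zero]

/-- the unit `B ⟶ S ⊗_R B` is an isomorphism when `ker φ` kills `B`. -/
theorem isIso_un_of_killed {B : ModuleCat.{u} R} (h : Killed φ B) : IsIso (un φ B) := by
  rw [ConcreteCategory.isIso_iff_bijective]
  refine ⟨?_, un_surjective hφ B⟩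
  change Function.Injective (un φ B).hom
  rw [injective_iff_map_eq_zero]
  intro b hb
  exact eq_zero_of_mem_smul_top' h b (ker_un_le hφ B (LinearMap.mem_ker.2 hb))

/-- `(A ⟶ S ⊗_R A) ⊗ B` is an isomorphism when `ker φ` kills `B`. -/
theorem isIso_un_whiskerRight (A : ModuleCat.{u} R) {B : ModuleCat.{u} R} (h : Killed φ B) :
    IsIso (un φ A ▷ B) := by
  rw [ConcreteCategory.isIso_iff_bijective]
  exact rTensor_bijective_of (RingHom.ker φ) (un φ A).hom (un_surjective hφ A) (ker_un_le hφ A) h

/-- `B ⊗ (A ⟶ S ⊗_R A)` is an isomorphism when `ker φ` kills `B`. -/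
theorem isIso_whiskerLeft_un (A : ModuleCat.{u} R) {B : ModuleCat.{u} R} (h : Killed φ B) :
    IsIso (B ◁ un φ A) := by
  rw [ConcreteCategory.isIso_iff_bijective]
  exact lTensor_bijective_of (RingHom.ker φ) (un φ A).hom (un_surjective hφ A) (ker_un_le hφ A) h

end Bundled

section Kappa

open CategoryTheory MonoidalCategory

variable {R S : Type u} [CommRing R] [CommRing S] (φ : R →+* S)

/-- restriction of scalars (short name). -/
noncomputable abbrev rs : ModuleCat.{u} S ⥤ ModuleCat.{u} R := ModuleCat.restrictScalars.{u} φ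

lemma rs_smul (M : ModuleCat.{u} S) (r : R) (m : (rs φ).obj M) :
    r • m = (show (rs φ).obj M from φ r • (show M from m)) := rfl

/-- the canonical map `M ⊗_R N ⟶ M ⊗_S N` for `S`-modules `M`, `N`. -/
noncomputable def kappaHom (M N : ModuleCat.{u} S) :
    MonoidalCategory.tensorObj ((rs φ).obj M) ((rs φ).obj N) ⟶
      (rs φ).obj (MonoidalCategory.tensorObj M N) :=
  ConcreteCategory.ofHom (C := ModuleCat.{u} R)
    (X := MonoidalCategory.tensorObj ((rs φ).obj M) ((rs φ).obj N))
    (Y := (rs φ).obj (MonoidalCategory.tensorObj M N))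
    (TensorProduct.lift (LinearMap.mk₂ R
      (fun (m : (rs φ).obj M) (n : (rs φ).obj N) =>
        (show ↑((rs φ).obj (MonoidalCategory.tensorObj M N)) from
          (show M from m) ⊗ₜ[S] (show N from n)))
      (fun m m' n => TensorProduct.add_tmul (R := S) (show M from m) (show M from m') (show N from n))
      (fun r m n => (TensorProduct.smul_tmul' (R := S) (φ r) (show M from m) (show N from n)).symm)
      (fun m n n' => TensorProduct.tmul_add (R := S) (show M from m) (show N from n) (show N from n'))
      (fun r m n => (TensorProduct.tmul_smul (R := S) (φ r) (show M from m) (show N from n)))))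

lemma kappaHom_tmul (M N : ModuleCat.{u} S) (m : M) (n : N) :
    (kappaHom φ M N).hom ((show (rs φ).obj M from m) ⊗ₜ[R] (show (rs φ).obj N from n)) =
      (show ↑((rs φ).obj (MonoidalCategory.tensorObj M N)) from m ⊗ₜ[S] n) := rfl

/-- the inverse of `kappaHom`, as an additive map. -/
noncomputable def kappaInv (hφ : Function.Surjective φ) (M N : ModuleCat.{u} S) :
    ((rs φ).obj (MonoidalCategory.tensorObj M N) : Type u) →+
      (MonoidalCategory.tensorObj ((rs φ).obj M) ((rs φ).obj N) : ModuleCat.{u} R) :=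
  (TensorProduct.liftAddHom
    (AddMonoidHom.mk' (fun m : M => AddMonoidHom.mk'
      (fun n : N => (show (rs φ).obj M from m) ⊗ₜ[R] (show (rs φ).obj N from n))
      (fun n n' => TensorProduct.tmul_add _ _ _))
      (fun m m' => by
        ext n
        exact TensorProduct.add_tmul _ _ _))
    (fun s m n => by
      obtain ⟨r, rfl⟩ := hφ s
      exact TensorProduct.smul_tmul (R := R) (R' := R) r (show (rs φ).obj M from m)
        (show (rs φ).obj N from n)) :
    TensorProduct S M N →+ TensorProduct R ((rs φ).obj M) ((rs φ).obj N))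

theorem isIso_kappaHom (hφ : Function.Surjective φ) (M N : ModuleCat.{u} S) :
    IsIso (kappaHom φ M N) := by
  rw [ConcreteCategory.isIso_iff_bijective]
  constructor
  · have hl : (kappaInv φ hφ M N).comp (kappaHom φ M N).hom.toAddMonoidHom =
        AddMonoidHom.id _ := by
      apply Groth.Agent.Lib.Helper16.Stk.tensor_addHom_ext (A := R)
      intro m n
      rfl
    intro a b hab
    have := congr_arg (kappaInv φ hφ M N) hab
    exact (DFunLike.congr_fun hl a).symm.trans (this.trans (DFunLike.congr_fun hl b))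
  · have hr : (kappaHom φ M N).hom.toAddMonoidHom.comp (kappaInv φ hφ M N) =
        AddMonoidHom.id _ := by
      apply Groth.Agent.Lib.Helper16.Stk.tensor_addHom_ext (A := S)
      intro m n
      rfl
    intro t
    exact ⟨kappaInv φ hφ M N t, DFunLike.congr_fun hr t⟩

lemma kappaHom_natL {M M' : ModuleCat.{u} S} (g : M ⟶ M') (N : ModuleCat.{u} S) :
    ((rs φ).map g ▷ (rs φ).obj N) ≫ kappaHom φ M' N =
      kappaHom φ M N ≫ (rs φ).map (g ▷ N) := by
  apply ModuleCat.MonoidalCategory.tensor_ext
  intro m n
  rfl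

lemma kappaHom_natR (M : ModuleCat.{u} S) {N N' : ModuleCat.{u} S} (g : N ⟶ N') :
    ((rs φ).obj M ◁ (rs φ).map g) ≫ kappaHom φ M N' =
      kappaHom φ M N ≫ (rs φ).map (M ◁ g) := by
  apply ModuleCat.MonoidalCategory.tensor_ext
  intro m n
  rfl

end Kappa

end Groth.Agent.Lib.Helper23.CIProj
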