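import Groth.Agent.Lib.Helper23.CIProj.EssIm

/-!
# Helper23 — CIProj.CounitMono: for a closed immersion `f`, the unit `H ⟶ f_* f^* H` is an epimorphism and
the counit `f_* R F ⟶ F` of any right adjoint `R` of `f_*` is a monomorphism
-/

set_option autoImplicit false
set_option linter.style.haveILetI false
universe u
open CategoryTheory CategoryTheory.Limits TopologicalSpace Opposite AlgebraicGeometry MonoidalCategory

namespace Groth.Agent.Lib.Helper23.CIProj
open Groth.Agent.Lib.Helper16.Stk

variable {X Y : Scheme.{u}} (f : X ⟶ Y) [IsClosedImmersion f]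

/-- the unit `H ⟶ f_* f^* H` of a closed immersion is an epimorphism. -/
instance epi_eta (H : Y.Modules) : Epi (eta f H) := by
  apply epi_of_forall_stalk
  intro y
  by_cases hy : y ∈ Set.range f.base
  · obtain ⟨x, rfl⟩ := hy
    rw [stk_eta_eq]
    haveI : Epi (un (φs f x) ((stk (f x)).obj H)) := by
      rw [ModuleCat.epi_iff_surjective]
      exact un_surjective (surjective_φs f x) _
    infer_instance
  · have hz := isZero_stk_push f (isClosed_range f) ((Scheme.Modules.pullback f).obj H) y hy
    exact ⟨fun g h _ => hz.eq_of_src _ _⟩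

variable {R : Y.Modules ⥤ X.Modules} (adj : Scheme.Modules.pushforward f ⊣ R)

/-- the counit `f_* R F ⟶ F` is a monomorphism. -/
theorem mono_counit (F : Y.Modules) : Mono (adj.counit.app F) := by
  constructor
  intro H φ φ' h
  let pp := Scheme.Modules.pullbackPushforwardAdjunction f
  have key : ∀ ψ : H ⟶ (Scheme.Modules.pushforward f).obj (R.obj F),
      ψ ≫ adj.counit.app F = eta f H ≫ (adj.homEquiv _ _).symm ((pp.homEquiv _ _).symm ψ) := by
    intro ψ
    have h1 : ψ = eta f H ≫ (Scheme.Modules.pushforward f).map ((pp.homEquiv _ _).symm ψ) := by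
      have := pp.homEquiv_unit (f := (pp.homEquiv _ _).symm ψ)
      rw [Equiv.apply_symm_apply] at this
      exact this
    have h2 := adj.homEquiv_counit (g := (pp.homEquiv H (R.obj F)).symm ψ)
    rw [h2]
    conv_lhs => rw [h1]
    rw [Category.assoc]
  rw [key φ, key φ', cancel_epi] at h
  exact (pp.homEquiv _ _).symm.injective ((adj.homEquiv _ _).symm.injective h)

/-- a morphism `f_* N ⟶ F` factors through the counit. -/
theorem exists_factor_counit {N : X.Modules} {F : Y.Modules}
    (m : (Scheme.Modules.pushforward f).obj N ⟶ F) :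
    ∃ n : N ⟶ R.obj F, (Scheme.Modules.pushforward f).map n ≫ adj.counit.app F = m :=
  ⟨adj.homEquiv _ _ m, (adj.homEquiv_counit (g := adj.homEquiv _ _ m)).symm.trans
    (Equiv.symm_apply_apply _ _)⟩

/-- a morphism out of a module with invertible unit factors through the counit. -/
theorem exists_factor_counit_of_isIso_eta {G F : Y.Modules} [IsIso (eta f G)] (m : G ⟶ F) :
    ∃ τ : G ⟶ (Scheme.Modules.pushforward f).obj (R.obj F), τ ≫ adj.counit.app F = m := by
  obtain ⟨n, hn⟩ := exists_factor_counit f adj (inv (eta f G) ≫ m)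
  exact ⟨eta f G ≫ (Scheme.Modules.pushforward f).map n, by rw [Category.assoc, hn]; simp⟩

end Groth.Agent.Lib.Helper23.CIProj
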