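import Groth.Agent.Lib.Helper23.CIProj.ProjFormula
import Groth.Agent.Lib.Helper16.KD12
import Groth.Agent.Lib.Helper16.CIPC1
import Groth.Agent.Lib.Helper26.OpenBC2

/-!
# Helper23 — CIProj.DerPF: the derived projection formula for a closed immersion and a K-flat complex
-/

set_option autoImplicit false
set_option linter.style.haveILetI false
universe u
open CategoryTheory CategoryTheory.Limits TopologicalSpace Opposite AlgebraicGeometry MonoidalCategory

attribute [local instance] HasDerivedCategory.standard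

namespace Groth.Agent.Lib.Helper23.CIProj
open Groth.Agent.Lib.Helper16.Stk Groth.Agent.Lib.Helper16.BiCx

variable {X Y : Scheme.{u}} (f : X ⟶ Y) [IsClosedImmersion f]

/-- the projection formula map `f_* N ⊗ A ⟶ f_* (N ⊗ f^* A)`. -/
noncomputable def pfR (N : X.Modules) (A : Y.Modules) :
    tens ((Scheme.Modules.pushforward f).obj N) A ⟶
      (Scheme.Modules.pushforward f).obj (tens N ((Scheme.Modules.pullback f).obj A)) :=
  (DCoh.tensorBi.obj ((Scheme.Modules.pushforward f).obj N)).map (eta f A) ≫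
    lax f N ((Scheme.Modules.pullback f).obj A)

instance isIso_pfR (N : X.Modules) (A : Y.Modules) : IsIso (pfR f N A) := by
  unfold pfR
  infer_instance

theorem pfR_natL {N N' : X.Modules} (g : N ⟶ N') (A : Y.Modules) :
    (DCoh.tensorBi.map ((Scheme.Modules.pushforward f).map g)).app A ≫ pfR f N' A =
      pfR f N A ≫ (Scheme.Modules.pushforward f).map
        ((DCoh.tensorBi.map g).app ((Scheme.Modules.pullback f).obj A)) := by
  unfold pfR
  have h1 := (DCoh.tensorBi.map ((Scheme.Modules.pushforward f).map g)).naturality (eta f A)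
  have h2 := lax_natL f g ((Scheme.Modules.pullback f).obj A)
  rw [← Category.assoc, ← h1, Category.assoc, h2, Category.assoc]

theorem pfR_natR (N : X.Modules) {A A' : Y.Modules} (h : A ⟶ A') :
    (DCoh.tensorBi.obj ((Scheme.Modules.pushforward f).obj N)).map h ≫ pfR f N A' =
      pfR f N A ≫ (Scheme.Modules.pushforward f).map
        ((DCoh.tensorBi.obj N).map ((Scheme.Modules.pullback f).map h)) := by
  unfold pfR
  have h1 : h ≫ eta f A' = eta f A ≫
      (Scheme.Modules.pushforward f).map ((Scheme.Modules.pullback f).map h) :=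
    (Scheme.Modules.pullbackPushforwardAdjunction f).unit.naturality h
  have h2 := lax_natR f N ((Scheme.Modules.pullback f).map h)
  rw [← Category.assoc, ← Functor.map_comp, h1, Functor.map_comp, Category.assoc, h2,
    Category.assoc]

/-- the bifunctor `(N, A) ↦ N ⊗ f^* A`. -/
noncomputable abbrev tensPull : X.Modules ⥤ Y.Modules ⥤ X.Modules :=
  DCoh.tensorBi (X := X) ⋙ (Functor.whiskeringLeft _ _ _).obj (Scheme.Modules.pullback f)

instance additive_pullback' : (Scheme.Modules.pullback f).Additive :=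
  (Scheme.Modules.pullbackPushforwardAdjunction f).left_adjoint_additive

instance additive_tensPull_obj (N : X.Modules) : ((tensPull f).obj N).Additive :=
  inferInstanceAs (Scheme.Modules.pullback f ⋙ (DCoh.tensorBi (X := X)).obj N).Additive

instance additive_tensPull : (tensPull f).Additive := inferInstance

open Groth.Agent.Lib.Helper16.CIPC DerivedCategory

/-- **the projection formula on complexes**: `f_* K ⊗ P ≅ f_* (K ⊗ f^* P)`. -/
noncomputable def pfCx (K : CochainComplex X.Modules ℤ) (P : CochainComplex Y.Modules ℤ) :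
    (DCoh.tensorCx.obj ((PCx f).obj K)).obj P ≅
      (PCx f).obj ((DCoh.tensorCx.obj K).obj
        (((Scheme.Modules.pullback f).mapHomologicalComplex (ComplexShape.up ℤ)).obj P)) :=
  cmpIso (tensPull f) (DCoh.tensorBi (X := Y)) (Scheme.Modules.pushforward f) (𝟭 Y.Modules)
    (Scheme.Modules.pushforward f) (fun N A => asIso (pfR f N A))
    (fun g A => pfR_natL f g A) (fun N _ _ h => pfR_natR f N h) K P

/-- `R f_* ≅ f_*` (termwise) for a closed immersion. -/
theorem nonempty_Rpush_iso_PD [DCoh.HasRpush f] : Nonempty (DCoh.Rpush f ≅ PD f) := by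
  refine Groth.Agent.Lib.Helper26.OpenBC2.nonempty_iso_of_isIso_app (DCoh.pushKh f) _ _
    ((DCoh.pushKh f).totalRightDerivedUnit DerivedCategory.Qh
      (HomotopyCategory.quasiIso X.Modules (ComplexShape.up ℤ)))
    (Scheme.Modules.pushforward f).mapDerivedCategoryFactorsh.inv ?_ ?_
  · intro I hI
    exact Groth.Agent.Lib.Helper26.KInjComp.isIso_unit_of_isKInjective (DCoh.pushKh f) _
      ((DCoh.pushKh f).totalRightDerivedUnit DerivedCategory.Qh
        (HomotopyCategory.quasiIso X.Modules (ComplexShape.up ℤ))) I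
  · intro I _
    infer_instance

/-- **the derived projection formula** for a closed immersion and a K-flat complex. -/
theorem nonempty_derived_projection_iso [DCoh.HasRpush f]
    (P : CochainComplex Y.Modules ℤ) (hP : DCoh.IsKFlat P) [DCoh.HasLTensorCx P]
    [DCoh.HasLTensorCx
      (((Scheme.Modules.pullback f).mapHomologicalComplex (ComplexShape.up ℤ)).obj P)]
    (E : DCoh.D X) :
    Nonempty ((DCoh.LTensorCx P).obj ((DCoh.Rpush f).obj E) ≅
      (DCoh.Rpush f).obj ((DCoh.LTensorCx
        (((Scheme.Modules.pullback f).mapHomologicalComplex (ComplexShape.up ℤ)).obj P)).obj E)) := by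
  obtain ⟨r⟩ := nonempty_Rpush_iso_PD f
  obtain ⟨K, ⟨eK⟩⟩ : ∃ K : CochainComplex X.Modules ℤ, Nonempty (Q.obj K ≅ E) :=
    ⟨_, ⟨Q.objObjPreimageIso E⟩⟩
  have hP' := Groth.Agent.Lib.Helper16.Stk.pullback_isKFlat f P hP
  let fP := ((Scheme.Modules.pullback f).mapHomologicalComplex (ComplexShape.up ℤ)).obj P
  let e1 : (DCoh.LTensorCx P).obj ((DCoh.Rpush f).obj E) ≅
      (DCoh.LTensorCx P).obj (Q.obj ((PCx f).obj K)) :=
    (DCoh.LTensorCx P).mapIso ((DCoh.Rpush f).mapIso eK.symm ≪≫ r.app _ ≪≫ PDQIso f K)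
  let e2 := Groth.Agent.Lib.Helper16.KD.LTensorCxIso' P hP ((PCx f).obj K)
  let e3 : Q.obj ((DCoh.tensorCx.obj ((PCx f).obj K)).obj P) ≅
      Q.obj ((PCx f).obj ((DCoh.tensorCx.obj K).obj fP)) := Q.mapIso (pfCx f K P)
  let e4 : Q.obj ((PCx f).obj ((DCoh.tensorCx.obj K).obj fP)) ≅
      (DCoh.Rpush f).obj (Q.obj ((DCoh.tensorCx.obj K).obj fP)) :=
    (PDQIso f _).symm ≪≫ (r.app _).symm
  let e5 : (DCoh.Rpush f).obj (Q.obj ((DCoh.tensorCx.obj K).obj fP)) ≅
      (DCoh.Rpush f).obj ((DCoh.LTensorCx fP).obj E) :=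
    (DCoh.Rpush f).mapIso ((Groth.Agent.Lib.Helper16.KD.LTensorCxIso' fP hP' K).symm ≪≫
      (DCoh.LTensorCx fP).mapIso eK)
  exact ⟨e1 ≪≫ e2 ≪≫ e3 ≪≫ e4 ≪≫ e5⟩

end Groth.Agent.Lib.Helper23.CIProj
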