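import Groth.Agent.Lib.Helper23.CIProj.UnitStalk
import Groth.Agent.Lib.Helper23.CIProj.Alg
import Groth.Agent.Lib.Helper16.Stk7
import Groth.Agent.Lib.Helper6.DevExt

/-!
# Helper23 — CIProj.EssIm: the unit `H ⟶ f_* f^* H` of a closed immersion

* it is an isomorphism when the stalks of `H` are killed by the kernels of the stalk maps and vanish outside `X`;
* in particular for `H = f_* N`, so `f_*` is fully faithful;
* `η_A ⊗ f_* N` is always an isomorphism.
-/

set_option autoImplicit false
universe u
open CategoryTheory CategoryTheory.Limits TopologicalSpace Opposite AlgebraicGeometry MonoidalCategory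

namespace Groth.Agent.Lib.Helper23.CIProj
open Groth.Agent.Lib.Helper16.Stk

variable {X Y : Scheme.{u}}

theorem isIso_of_forall_stalk {M N : Y.Modules} (g : M ⟶ N)
    (h : ∀ y : Y, IsIso ((stk y).map g)) : IsIso g := by
  haveI : Mono g := mono_of_forall_stalk g (fun y => by haveI := h y; infer_instance)
  haveI : Epi g := epi_of_forall_stalk g (fun y => by haveI := h y; infer_instance)
  exact isIso_of_mono_of_epi g

lemma isIso_of_isZero {C : Type*} [Category C] [HasZeroMorphisms C] {A B : C} (g : A ⟶ B)
    (hA : IsZero A) (hB : IsZero B) : IsIso g :=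
  ⟨⟨0, hA.eq_of_src _ _, hB.eq_of_tgt _ _⟩⟩

variable (f : X ⟶ Y) [IsClosedImmersion f]

/-- the unit `H ⟶ f_* f^* H`. -/
noncomputable abbrev eta (H : Y.Modules) :
    H ⟶ (Scheme.Modules.pushforward f).obj ((Scheme.Modules.pullback f).obj H) :=
  (Scheme.Modules.pullbackPushforwardAdjunction f).unit.app H

lemma surjective_φs (x : X) : Function.Surjective (φs f x) := f.stalkMap_surjective x

lemma isClosed_range : IsClosed (Set.range f.base) := f.isClosedEmbedding.isClosed_range

/-- the unit on stalks at `f x` is, up to isomorphisms, the unit of extension of scalars. -/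
lemma stk_eta_eq (H : Y.Modules) (x : X) :
    (stk (f x)).map (eta f H) =
      un (φs f x) ((stk (f x)).obj H) ≫
        inv ((ModuleCat.restrictScalars.{u} (φs f x)).map ((pullbackStkIso f x).hom.app H)) ≫
          inv (lam f x ((Scheme.Modules.pullback f).obj H)) := by
  have h := stk_unit_formula f x H
  change _ = un (φs f x) ((stk (f x)).obj H) at h
  rw [← h]
  simp

theorem isIso_eta_of_killed (H : Y.Modules)
    (hk : ∀ x : X, Killed (φs f x) ((stk (f x)).obj H))
    (hz : ∀ y : Y, y ∉ Set.range f.base → IsZero ((stk y).obj H)) : IsIso (eta f H) := by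
  apply isIso_of_forall_stalk
  intro y
  by_cases hy : y ∈ Set.range f.base
  · obtain ⟨x, rfl⟩ := hy
    rw [stk_eta_eq]
    haveI := isIso_un_of_killed (surjective_φs f x) (hk x)
    infer_instance
  · exact isIso_of_isZero _ (hz y hy) (isZero_stk_push f (isClosed_range f) _ y hy)

lemma killed_stk_push (N : X.Modules) (x : X) :
    Killed (φs f x) ((stk (f x)).obj ((Scheme.Modules.pushforward f).obj N)) :=
  killed_of_iso (asIso (lam f x N)).symm (killed_restrictScalars _)

instance isIso_eta_push (N : X.Modules) : IsIso (eta f ((Scheme.Modules.pushforward f).obj N)) :=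
  isIso_eta_of_killed f _ (fun x => killed_stk_push f N x)
    (fun y hy => isZero_stk_push f (isClosed_range f) N y hy)

instance isIso_counit_app (N : X.Modules) :
    IsIso ((Scheme.Modules.pullbackPushforwardAdjunction f).counit.app N) := by
  have h := (Scheme.Modules.pullbackPushforwardAdjunction f).right_triangle_components N
  have h2 : IsIso ((Scheme.Modules.pushforward f).map
      ((Scheme.Modules.pullbackPushforwardAdjunction f).counit.app N)) := by
    have : (Scheme.Modules.pushforward f).map
        ((Scheme.Modules.pullbackPushforwardAdjunction f).counit.app N) =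
        inv (eta f ((Scheme.Modules.pushforward f).obj N)) := by
      rw [← cancel_epi (eta f ((Scheme.Modules.pushforward f).obj N)), IsIso.hom_inv_id]
      exact h
    rw [this]
    infer_instance
  exact isIso_of_reflects_iso _ (Scheme.Modules.pushforward f)

instance isIso_counit : IsIso (Scheme.Modules.pullbackPushforwardAdjunction f).counit :=
  NatIso.isIso_of_isIso_app _

/-- **the direct image along a closed immersion is fully faithful** (on all modules). -/
noncomputable def fullyFaithfulPushforward : (Scheme.Modules.pushforward f).FullyFaithful :=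
  (Scheme.Modules.pullbackPushforwardAdjunction f).fullyFaithfulROfIsIsoCounit

instance full_pushforward : (Scheme.Modules.pushforward f).Full := (fullyFaithfulPushforward f).full

end Groth.Agent.Lib.Helper23.CIProj
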