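import Groth.Agent.Lib.Helper23.CIProj.EssIm

/-!
# Helper23 — CIProj.EtaTensor: `η_A ⊗ f_* N` is an isomorphism (closed immersion `f`)
-/

set_option autoImplicit false
universe u
open CategoryTheory CategoryTheory.Limits TopologicalSpace Opposite AlgebraicGeometry MonoidalCategory

namespace Groth.Agent.Lib.Helper23.CIProj
open Groth.Agent.Lib.Helper16.Stk

section Alg

variable {R : Type u} [CommRing R]

lemma isZero_tensor_right (A : ModuleCat.{u} R) {B : ModuleCat.{u} R} (hB : IsZero B) :
    IsZero (A ⊗ B) := by
  haveI : Subsingleton B := ModuleCat.subsingleton_of_isZero hB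
  haveI : Subsingleton (A ⊗ B : ModuleCat.{u} R) := by
    refine ⟨fun s t => ?_⟩
    suffices h : ∀ c : (A ⊗ B : ModuleCat.{u} R), c = 0 by rw [h s, h t]
    intro c
    induction c using TensorProduct.induction_on with
    | zero => rfl
    | tmul a b => rw [Subsingleton.elim b 0, TensorProduct.tmul_zero]
    | add x y hx hy => rw [hx, hy, add_zero]
  exact ModuleCat.isZero_of_subsingleton _

lemma isZero_tensor_left (A : ModuleCat.{u} R) {B : ModuleCat.{u} R} (hB : IsZero B) :
    IsZero (B ⊗ A) := by
  haveI : Subsingleton B := ModuleCat.subsingleton_of_isZero hB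
  haveI : Subsingleton (B ⊗ A : ModuleCat.{u} R) := by
    refine ⟨fun s t => ?_⟩
    suffices h : ∀ c : (B ⊗ A : ModuleCat.{u} R), c = 0 by rw [h s, h t]
    intro c
    induction c using TensorProduct.induction_on with
    | zero => rfl
    | tmul b a => rw [Subsingleton.elim b 0, TensorProduct.zero_tmul]
    | add x y hx hy => rw [hx, hy, add_zero]
  exact ModuleCat.isZero_of_subsingleton _

end Alg

variable {X Y : Scheme.{u}}

/-- `g ⊗ B` is an isomorphism if it is so on stalks. -/
theorem isIso_tensorBi_map_app {A A' : Y.Modules} (g : A ⟶ A') (B : Y.Modules)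
    (h : ∀ y : Y, IsIso ((stk y).map g ▷ (stk y).obj B)) :
    IsIso ((DCoh.tensorBi.map g).app B) := by
  apply isIso_of_forall_stalk
  intro y
  have e := stalkTensorIso_natL y g B
  haveI := h y
  have : (stk y).map ((DCoh.tensorBi.map g).app B) =
      (stalkTensorIso y A B).inv ≫ ((stk y).map g ▷ (stk y).obj B) ≫
        (stalkTensorIso y A' B).hom := by
    rw [e, Iso.inv_hom_id_assoc]
  rw [this]
  infer_instance

/-- `B ⊗ g` is an isomorphism if it is so on stalks. -/
theorem isIso_tensorBi_obj_map {A A' : Y.Modules} (g : A ⟶ A') (B : Y.Modules)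
    (h : ∀ y : Y, IsIso ((stk y).obj B ◁ (stk y).map g)) :
    IsIso ((DCoh.tensorBi.obj B).map g) := by
  apply isIso_of_forall_stalk
  intro y
  have e := stalkTensorIso_natR y B g
  haveI := h y
  have : (stk y).map ((DCoh.tensorBi.obj B).map g) =
      (stalkTensorIso y B A).inv ≫ ((stk y).obj B ◁ (stk y).map g) ≫
        (stalkTensorIso y B A').hom := by
    rw [e, Iso.inv_hom_id_assoc]
  rw [this]
  infer_instance

variable (f : X ⟶ Y) [IsClosedImmersion f]

/-- **`η_A ⊗ f_* N` is an isomorphism.** -/
instance isIso_eta_tensor (A : Y.Modules) (N : X.Modules) :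
    IsIso ((DCoh.tensorBi.map (eta f A)).app ((Scheme.Modules.pushforward f).obj N)) := by
  apply isIso_tensorBi_map_app
  intro y
  by_cases hy : y ∈ Set.range f.base
  · obtain ⟨x, rfl⟩ := hy
    rw [stk_eta_eq, MonoidalCategory.comp_whiskerRight, MonoidalCategory.comp_whiskerRight]
    haveI := isIso_un_whiskerRight (surjective_φs f x) ((stk (f x)).obj A)
      (killed_stk_push f N x)
    infer_instance
  · exact isIso_of_isZero _
      (isZero_tensor_right _ (isZero_stk_push f (isClosed_range f) N y hy))
      (isZero_tensor_right _ (isZero_stk_push f (isClosed_range f) N y hy))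

/-- **`f_* N ⊗ η_A` is an isomorphism.** -/
instance isIso_tensor_eta (A : Y.Modules) (N : X.Modules) :
    IsIso ((DCoh.tensorBi.obj ((Scheme.Modules.pushforward f).obj N)).map (eta f A)) := by
  apply isIso_tensorBi_obj_map
  intro y
  by_cases hy : y ∈ Set.range f.base
  · obtain ⟨x, rfl⟩ := hy
    rw [stk_eta_eq, MonoidalCategory.whiskerLeft_comp, MonoidalCategory.whiskerLeft_comp]
    haveI := isIso_whiskerLeft_un (surjective_φs f x) ((stk (f x)).obj A)
      (killed_stk_push f N x)
    infer_instance
  · exact isIso_of_isZero _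
      (isZero_tensor_left _ (isZero_stk_push f (isClosed_range f) N y hy))
      (isZero_tensor_left _ (isZero_stk_push f (isClosed_range f) N y hy))

end Groth.Agent.Lib.Helper23.CIProj
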