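import Groth.Agent.Lib.Helper23.CIProj.UnitStalk
import Groth.Agent.Lib.Helper1.FreeOnMap

/-!
# Helper23 — CIProj.FreeStalk: the stalks of `freeOn U = j_! O_U` on a scheme
-/

set_option autoImplicit false
set_option linter.style.haveILetI false
universe u
open CategoryTheory CategoryTheory.Limits TopologicalSpace Opposite AlgebraicGeometry

namespace Groth.Agent.Lib.Helper23.CIProj
open Groth.Agent.Lib.Helper16.Stk Groth.Agent.Lib.Helper1

variable {X : Scheme.{u}} (U : X.Opens)

/-- `j_! O_U` as an `O_X`-module. -/
noncomputable abbrev freeU : X.Modules := ModSite.freeOn X.sheaf U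

/-- the universal section. -/
noncomputable abbrev genU : (tP (freeU U)).obj (op U) := FreeOnMap.gen X.sheaf U

/-- morphisms out of `j_! O_U` are determined by the image of the universal section. -/
lemma freeU_hom_ext {M : X.Modules} (φ ψ : freeU U ⟶ M)
    (h : (tPMap φ).app (op U) (genU U) = (tPMap ψ).app (op U) (genU U)) : φ = ψ := by
  apply (ModSiteFree.homEquiv X.sheaf U M).injective
  exact (FreeOnMap.homEquiv_eq X.sheaf U φ).trans
    (h.trans (FreeOnMap.homEquiv_eq X.sheaf U ψ).symm)

/-- the adjunct of `φ : (j_! O_U)_y ⟶ N` on the universal section. -/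
lemma homEquiv_sky_apply (y : X) {M : X.Modules} (N : ModuleCat.{u} (X.presheaf.stalk y))
    (φ : (stk y).obj M ⟶ N) (V : X.Opens) (m : (tP M).obj (op V)) (h : PLift (y ∈ V)) :
    (show (skyP (R := X.presheaf) y N).obj (op V) from
      (tPMap ((stkSkyAdj y).homEquiv M N φ)).app (op V) m) h =
      φ.hom (gm y (tP M) V h.down m) := by
  rw [Adjunction.homEquiv_unit]
  change (show (skyP (R := X.presheaf) y N).obj (op V) from
    (DCoh.toP.map ((stkSkyAdj y).unit.app M) ≫ DCoh.toP.map ((skyFunctor y).map φ)).app (op V) m) h = _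
  rw [toP_unit]
  rfl

/-- the stalk of `j_! O_U` at a point outside `U` vanishes. -/
theorem isZero_stk_freeU (y : X) (hy : y ∉ U) : IsZero ((stk y).obj (freeU U)) := by
  rw [IsZero.iff_id_eq_zero]
  apply ((stkSkyAdj y).homEquiv _ _).injective
  apply freeU_hom_ext
  funext h
  exact absurd h.down hy

/-- the germ of the universal section, as an element of the stalk module. -/
noncomputable def germU (y : X) (hy : y ∈ U) : ((stk y).obj (freeU U) : Type u) :=
  gm y (tP (freeU U)) U hy (genU U)

/-- the stalk of `j_! O_U` at a point of `U` is generated by the germ of the universal section. -/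
theorem exists_smul_germU (y : X) (hy : y ∈ U) (a : ((stk y).obj (freeU U) : Type u)) :
    ∃ c : X.presheaf.stalk y, a = c • germU U y hy := by
  let S : Submodule (X.presheaf.stalk y) ((stk y).obj (freeU U)) :=
    Submodule.span _ {germU U y hy}
  let π : (stk y).obj (freeU U) ⟶ ModuleCat.of (X.presheaf.stalk y) (((stk y).obj (freeU U)) ⧸ S) :=
    ModuleCat.ofHom S.mkQ
  have hπ : π = 0 := by
    apply ((stkSkyAdj y).homEquiv _ _).injective
    apply freeU_hom_ext
    funext h
    refine (homEquiv_sky_apply y _ π U (genU U) h).trans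
      (Eq.trans ?_ (homEquiv_sky_apply y _ 0 U (genU U) h).symm)
    change S.mkQ (germU U y hy) = 0
    rw [Submodule.mkQ_apply, Submodule.Quotient.mk_eq_zero]
    exact Submodule.subset_span rfl
  have hmem : a ∈ S := by
    rw [← Submodule.Quotient.mk_eq_zero, ← Submodule.mkQ_apply]
    change π.hom a = 0
    rw [hπ]
    rfl
  obtain ⟨c, hc⟩ := Submodule.mem_span_singleton.1 hmem
  exact ⟨c, hc.symm⟩

end Groth.Agent.Lib.Helper23.CIProj
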