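import Groth.Agent.Lib.Helper23.CIProj.EssIm

/-!
# Helper23 — CIProj.KerStalk: on an affine open `U`, the kernel of the stalk map of a closed immersion is
generated by the germs of `I(U)`; outside the image the germs of `I(U)` generate the unit ideal
-/

set_option autoImplicit false
set_option linter.style.haveILetI false
universe u
open CategoryTheory CategoryTheory.Limits TopologicalSpace Opposite AlgebraicGeometry

namespace Groth.Agent.Lib.Helper23.CIProj
open Groth.Agent.Lib.Helper16.Stk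

variable {X Y : Scheme.{u}} (f : X ⟶ Y) [IsClosedImmersion f] (U : Y.affineOpens)

/-- the ideal of the local ring at `y ∈ U` generated by the germs of `I(U)`. -/
noncomputable def germIdeal (y : Y) (hy : y ∈ U.1) : Ideal (Y.presheaf.stalk y) :=
  Ideal.map (Y.presheaf.germ U.1 y hy).hom (f.ker.ideal U)

theorem ker_φs_le_germIdeal (x : X) (hx : f x ∈ U.1) (r : Y.presheaf.stalk (f x))
    (hr : φs f x r = 0) : r ∈ germIdeal f U (f x) hx := by
  have hV : IsAffineOpen (f ⁻¹ᵁ U.1) := U.2.preimage f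
  have hx' : x ∈ f ⁻¹ᵁ U.1 := hx
  letI : Algebra Γ(Y, U.1) (Y.presheaf.stalk (f x)) :=
    TopCat.Presheaf.algebra_section_stalk Y.presheaf (⟨f x, hx⟩ : U.1)
  letI : Algebra Γ(X, f ⁻¹ᵁ U.1) (X.presheaf.stalk x) :=
    TopCat.Presheaf.algebra_section_stalk X.presheaf (⟨x, hx'⟩ : (f ⁻¹ᵁ U.1 : X.Opens))
  haveI : IsLocalization.AtPrime (Y.presheaf.stalk (f x))
      (U.2.primeIdealOf ⟨f x, hx⟩).asIdeal := U.2.isLocalization_stalk ⟨f x, hx⟩
  haveI : IsLocalization.AtPrime (X.presheaf.stalk x)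
      (hV.primeIdealOf ⟨x, hx'⟩).asIdeal := hV.isLocalization_stalk ⟨x, hx'⟩
  obtain ⟨⟨a, s⟩, hrs⟩ := IsLocalization.surj (U.2.primeIdealOf ⟨f x, hx⟩).asIdeal.primeCompl r
  have hsu : IsUnit (Y.presheaf.germ U.1 (f x) hx s.1) :=
    IsLocalization.map_units (Y.presheaf.stalk (f x)) s
  change r * (Y.presheaf.germ U.1 (f x) hx).hom s.1 = (Y.presheaf.germ U.1 (f x) hx).hom a at hrs
  -- the image of `a` has zero germ at `x`
  have hb : (X.presheaf.germ (f ⁻¹ᵁ U.1) x hx').hom ((f.app U.1).hom a) = 0 := by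
    have h1 : φs f x ((Y.presheaf.germ U.1 (f x) hx).hom a) =
        (X.presheaf.germ (f ⁻¹ᵁ U.1) x hx').hom ((f.app U.1).hom a) :=
      Scheme.Hom.germ_stalkMap_apply f U.1 x hx a
    rw [← h1, ← hrs, map_mul, hr, zero_mul]
  obtain ⟨t, ht⟩ := (IsLocalization.map_eq_zero_iff
    (hV.primeIdealOf ⟨x, hx'⟩).asIdeal.primeCompl (X.presheaf.stalk x) ((f.app U.1).hom a)).1 hb
  have htu : IsUnit ((X.presheaf.germ (f ⁻¹ᵁ U.1) x hx').hom t.1) :=
    IsLocalization.map_units (X.presheaf.stalk x) t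
  obtain ⟨t', ht'⟩ := f.app_surjective U.1 U.2 t.1
  have hker : t' * a ∈ f.ker.ideal U := by
    rw [Scheme.Hom.ker_apply, RingHom.mem_ker, map_mul]
    exact (congr_arg (· * (f.app U.1).hom a) ht').trans ht
  have ht'u : IsUnit ((Y.presheaf.germ U.1 (f x) hx).hom t') := by
    have h1 : φs f x ((Y.presheaf.germ U.1 (f x) hx).hom t') =
        (X.presheaf.germ (f ⁻¹ᵁ U.1) x hx').hom ((f.app U.1).hom t') :=
      Scheme.Hom.germ_stalkMap_apply f U.1 x hx t'
    have h2 : IsUnit (φs f x ((Y.presheaf.germ U.1 (f x) hx).hom t')) := by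
      rw [h1]
      exact (congr_arg (fun z => IsUnit ((X.presheaf.germ (f ⁻¹ᵁ U.1) x hx').hom z)) ht').mpr htu
    exact isUnit_of_map_unit (f.stalkMap x).hom _ h2
  have hmem : (Y.presheaf.germ U.1 (f x) hx).hom (t' * a) ∈ germIdeal f U (f x) hx :=
    Ideal.mem_map_of_mem _ hker
  obtain ⟨us, hus⟩ := hsu
  obtain ⟨ut, hut⟩ := ht'u
  have hr' : r = (↑us⁻¹ * ↑ut⁻¹) * (Y.presheaf.germ U.1 (f x) hx).hom (t' * a) := by
    rw [map_mul, ← hut, ← hrs]
    rw [← hus]
    have e1 : (↑us⁻¹ : Y.presheaf.stalk (f x)) * ↑us = 1 := Units.inv_mul us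
    have e2 : (↑ut⁻¹ : Y.presheaf.stalk (f x)) * ↑ut = 1 := Units.inv_mul ut
    calc r = (↑us⁻¹ * ↑us) * (↑ut⁻¹ * ↑ut) * r := by rw [e1, e2]; ring
      _ = _ := by ring
  rw [hr']
  exact Ideal.mul_mem_left _ _ hmem

theorem germIdeal_eq_top (y : Y) (hy : y ∈ U.1) (hyr : y ∉ Set.range f.base) :
    germIdeal f U y hy = ⊤ := by
  have hsupp : y ∉ f.ker.support := by
    intro h
    have h2 : y ∈ (f.ker.support : Set Y) := h
    rw [Scheme.Hom.support_ker, (isClosed_range f).closure_eq] at h2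
    exact hyr h2
  rw [Scheme.IdealSheafData.mem_support_iff_of_mem (U := U) hy, Scheme.mem_zeroLocus_iff] at hsupp
  push Not at hsupp
  obtain ⟨a, ha, hya⟩ := hsupp
  have hu : IsUnit ((Y.presheaf.germ U.1 y hy).hom a) := (Y.mem_basicOpen a y hy).1 hya
  exact Ideal.eq_top_of_isUnit_mem _ (Ideal.mem_map_of_mem _ ha) hu

end Groth.Agent.Lib.Helper23.CIProj
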