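import Groth.Agent.Lib.Helper23.CIProj.CounitMono
import Groth.Agent.Lib.Helper23.CIProj.FreeStalk
import Groth.Agent.Lib.Helper23.CIProj.KerStalk
import Groth.Agent.Lib.Helper6.SectExact

/-!
# Helper23 — CIProj.HomOSec: sections of `f_* R F` over an affine open, for `R` a right adjoint of `f_*`
(`f` a closed immersion): the counit identifies them with the sections of `F` killed by `I(U)`
-/

set_option autoImplicit false
set_option linter.style.haveILetI false
universe u
open CategoryTheory CategoryTheory.Limits TopologicalSpace Opposite AlgebraicGeometry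

namespace Groth.Agent.Lib.Helper23.CIProj
open Groth.Agent.Lib.Helper16.Stk Groth.Agent.Lib.Helper1

variable {X Y : Scheme.{u}} (f : X ⟶ Y) [IsClosedImmersion f]
  {R : Y.Modules ⥤ X.Modules} (adj : Scheme.Modules.pushforward f ⊣ R) (F : Y.Modules)
  (U : Y.affineOpens)

/-- the counit is injective on sections. -/
theorem counit_app_injective (V : Y.Opens) :
    Function.Injective ((adj.counit.app F).val.app (op V)) := by
  exact @Groth.Agent.Lib.Helper6.SectExact.injective_of_mono _ _ _ Y.sheaf _ _ (adj.counit.app F)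
    (mono_counit f adj F) V

/-- sections of `f_* N` over `U` are killed by `I(U)`. -/
theorem smul_push_eq_zero (N : X.Modules) (a : Γ(Y, U.1)) (ha : a ∈ f.ker.ideal U)
    (t : (pushP f N).obj (op U.1)) : a • t = 0 := by
  rw [Scheme.Hom.ker_apply, RingHom.mem_ker] at ha
  have h := toSec_smul f N U.1 a t
  have h0 : (show X.presheaf.obj (op (f ⁻¹ᵁ U.1)) from (f.app U.1).hom a) = 0 := ha
  rw [h0, zero_smul] at h
  exact h

/-- germs of sections killed by `I(U)` are killed by the ideal generated by the germs of `I(U)`. -/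
lemma germIdeal_smul_gm (s : (tP F).obj (op U.1)) (hs : ∀ a ∈ f.ker.ideal U, a • s = 0)
    (y : Y) (hy : y ∈ U.1) (r : Y.presheaf.stalk y) (hr : r ∈ germIdeal f U y hy) :
    r • (show ((stk y).obj F : Type u) from gm y (tP F) U.1 hy s) = 0 := by
  have hle : germIdeal f U y hy ≤ Ideal.torsionOf (Y.presheaf.stalk y) ((stk y).obj F)
      (show ((stk y).obj F : Type u) from gm y (tP F) U.1 hy s) := by
    unfold germIdeal
    rw [Ideal.map_le_iff_le_comap]
    intro a ha
    rw [Ideal.mem_comap, Ideal.mem_torsionOf_iff]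
    have h1 := gm_smul (x := y) (tP F) U.1 hy a s
    rw [hs a ha, map_zero] at h1
    exact h1.symm
  exact (Ideal.mem_torsionOf_iff _ _).1 (hle hr)

/-- every section of `F` over the affine open `U` killed by `I(U)` comes from `f_* R F`. -/
theorem exists_counit_app_eq (s : (tP F).obj (op U.1)) (hs : ∀ a ∈ f.ker.ideal U, a • s = 0) :
    ∃ t : (pushP f (R.obj F)).obj (op U.1), (adj.counit.app F).val.app (op U.1) t = s := by
  let σ : freeU U.1 ⟶ F := FreeOnMap.ofSec Y.sheaf s
  have hσ : (tPMap σ).app (op U.1) (genU U.1) = s := by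
    have h := FreeOnMap.homEquiv_eq Y.sheaf U.1 σ
    have h2 : ModSiteFree.homEquiv Y.sheaf U.1 F σ = s := Equiv.apply_symm_apply _ _
    exact h.symm.trans h2
  let G : Y.Modules := Abelian.image σ
  let p : freeU U.1 ⟶ G := Abelian.factorThruImage σ
  let m : G ⟶ F := Abelian.image.ι σ
  have hpm : p ≫ m = σ := Abelian.image.fac σ
  haveI : Epi p := inferInstance
  haveI : Mono m := inferInstance
  -- stalkwise facts
  have hp : ∀ y : Y, Function.Surjective ((stk y).map p).hom := fun y =>
    (ModuleCat.epi_iff_surjective _).1 inferInstance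
  have hm : ∀ y : Y, Function.Injective ((stk y).map m).hom := fun y =>
    (ModuleCat.mono_iff_injective _).1 inferInstance
  have hzero : ∀ y : Y, y ∉ U.1 → ∀ b : ((stk y).obj G : Type u), b = 0 := by
    intro y hy b
    obtain ⟨a, rfl⟩ := hp y b
    haveI : Subsingleton ((stk y).obj (freeU U.1) : Type u) :=
      ModuleCat.subsingleton_of_isZero (isZero_stk_freeU U.1 y hy)
    have : a = 0 := Subsingleton.elim _ _
    rw [this, map_zero]
  have hkill : ∀ (y : Y) (hy : y ∈ U.1) (r : Y.presheaf.stalk y), r ∈ germIdeal f U y hy →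
      ∀ b : ((stk y).obj G : Type u), r • b = 0 := by
    intro y hy r hr b
    obtain ⟨a, rfl⟩ := hp y b
    obtain ⟨c, rfl⟩ := exists_smul_germU U.1 y hy a
    apply hm y
    rw [map_zero, map_smul, map_smul, map_smul]
    have h1 : ((stk y).map m).hom (((stk y).map p).hom (germU U.1 y hy)) =
        (show ((stk y).obj F : Type u) from gm y (tP F) U.1 hy s) := by
      change ((stk y).map p ≫ (stk y).map m).hom (germU U.1 y hy) = _
      rw [← Functor.map_comp, hpm]
      change stMap y (tPMap σ) (gm y (tP (freeU U.1)) U.1 hy (genU U.1)) = _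
      rw [stMap_gm, hσ]
    rw [h1, smul_comm, germIdeal_smul_gm f F U s hs y hy r hr, smul_zero]
  haveI : IsIso (eta f G) := by
    apply isIso_eta_of_killed
    · intro x r hr b
      by_cases hx : f x ∈ U.1
      · exact hkill (f x) hx r (ker_φs_le_germIdeal f U x hx r hr) b
      · rw [hzero (f x) hx b, smul_zero]
    · intro y hy
      haveI : Subsingleton ((stk y).obj G : Type u) := by
        refine ⟨fun b b' => ?_⟩
        by_cases hyU : y ∈ U.1
        · have h1 : (1 : Y.presheaf.stalk y) ∈ germIdeal f U y hyU := by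
            rw [germIdeal_eq_top f U y hyU hy]; trivial
          have e := hkill y hyU 1 h1
          rw [← one_smul (Y.presheaf.stalk y) b, ← one_smul (Y.presheaf.stalk y) b', e b, e b']
        · rw [hzero y hyU b, hzero y hyU b']
      exact ModuleCat.isZero_of_subsingleton _
  obtain ⟨τ, hτ⟩ := exists_factor_counit_of_isIso_eta f adj m
  refine ⟨(tPMap (p ≫ τ)).app (op U.1) (genU U.1), ?_⟩
  change (tPMap ((p ≫ τ) ≫ adj.counit.app F)).app (op U.1) (genU U.1) = s
  rw [Category.assoc, hτ, hpm]
  exact hσ

end Groth.Agent.Lib.Helper23.CIProj
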