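import Groth.Agent.Lib.Helper16.PB1

/-!
# Helper23 — CIProj.Lam: the stalks of a direct image `f_* M`

For `f : X ⟶ Y`, `x : X` there is a natural map `λ : (f_* M)_{f x} ⟶ M_x` (semilinear over the stalk map);
it is an isomorphism when `f` is a topological embedding.  The stalks of `f_* M` vanish outside the closure of
the range.
-/

set_option autoImplicit false
universe u
open CategoryTheory CategoryTheory.Limits TopologicalSpace Opposite AlgebraicGeometry

namespace Groth.Agent.Lib.Helper23.CIProj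
open Groth.Agent.Lib.Helper16.Stk

variable {X Y : Scheme.{u}} (f : X ⟶ Y) (x : X)

/-- the presheaf of modules underlying `M`, typed over `X.presheaf`. -/
noncomputable abbrev tP (M : X.Modules) : PM X.presheaf := DCoh.toP.obj M

/-- the presheaf of modules underlying `f_* M`. -/
noncomputable abbrev pushP (M : X.Modules) : PM Y.presheaf :=
  DCoh.toP.obj ((Scheme.Modules.pushforward f).obj M)

/-- a section of `f_* M` over `U`, seen as a section of `M` over `f⁻¹ U`. -/
def toSec (M : X.Modules) (U : Y.Opens) (s : (pushP f M).obj (op U)) :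
    (tP M).obj (op (f ⁻¹ᵁ U)) := s

/-- a section of `M` over `f⁻¹ U`, seen as a section of `f_* M` over `U`. -/
def ofSec (M : X.Modules) (U : Y.Opens) (s : (tP M).obj (op (f ⁻¹ᵁ U))) :
    (pushP f M).obj (op U) := s

variable {f x} in
lemma memPre {U : Y.Opens} (hx : f x ∈ U) : x ∈ f ⁻¹ᵁ U := hx

/-- the sectionwise maps defining `λ`. -/
noncomputable def lamAux (M : X.Modules) (U : Y.Opens) (hx : f x ∈ U) :
    (pushP f M).obj (op U) →+ St x (tP M) where
  toFun s := gm x (tP M) (f ⁻¹ᵁ U) (memPre hx) (toSec f M U s)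
  map_zero' := map_zero (gm x (tP M) (f ⁻¹ᵁ U) (memPre hx))
  map_add' s t := map_add (gm x (tP M) (f ⁻¹ᵁ U) (memPre hx)) (toSec f M U s) (toSec f M U t)

lemma lamAux_res (M : X.Modules) {U V : Y.Opens} (i : U ⟶ V) (hx : f x ∈ U)
    (m : (pushP f M).obj (op V)) :
    lamAux f x M U hx ((pushP f M).map i.op m) = lamAux f x M V (i.le hx) m :=
  gm_res (tP M) ((Opens.map f.base).map i) (memPre hx) (toSec f M V m)

/-- `λ` as an additive map. -/
noncomputable def lamAdd (M : X.Modules) :
    St (f x) (pushP f M) →+ St x (tP M) :=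
  stDesc (pushP f M) (fun U hx => lamAux f x M U hx) (fun i hx m => lamAux_res f x M i hx m)

lemma lamAdd_gm (M : X.Modules) (U : Y.Opens) (hx : f x ∈ U) (s : (pushP f M).obj (op U)) :
    lamAdd f x M (gm (f x) (pushP f M) U hx s) =
      gm x (tP M) (f ⁻¹ᵁ U) (memPre hx) (toSec f M U s) :=
  stDesc_gm (pushP f M) (fun U hx => lamAux f x M U hx)
    (fun i hx m => lamAux_res f x M i hx m) U hx s

lemma toSec_smul (M : X.Modules) (U : Y.Opens)
    (ρ : Y.presheaf.obj (op U)) (m : (pushP f M).obj (op U)) :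
    toSec f M U (ρ • m) =
      (show X.presheaf.obj (op (f ⁻¹ᵁ U)) from (f.app U).hom ρ) • toSec f M U m := rfl

lemma lamAdd_smul (M : X.Modules) (r : Y.presheaf.stalk (f x)) (a : St (f x) (pushP f M)) :
    lamAdd f x M (r • a) = φs f x r • lamAdd f x M a := by
  obtain ⟨W, hW, ρ, m, rfl, rfl⟩ := exists_gr_gm (pushP f M) r a
  rw [← gm_smul, lamAdd_gm, lamAdd_gm, toSec_smul, φs_gr]
  change _ = gr x (f ⁻¹ᵁ W) (memPre hW) _ • _
  exact gm_smul (tP M) (f ⁻¹ᵁ W) (memPre hW) _ _

/-- **the comparison map `(f_* M)_{f x} ⟶ M_x`**, linear over `O_{Y, f x}`. -/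
noncomputable def lam (M : X.Modules) :
    (stk (f x)).obj ((Scheme.Modules.pushforward f).obj M) ⟶
      (ModuleCat.restrictScalars.{u} (φs f x)).obj ((stk x).obj M) :=
  ModuleCat.ofHom (X := (stk (f x)).obj ((Scheme.Modules.pushforward f).obj M))
    (Y := (ModuleCat.restrictScalars.{u} (φs f x)).obj ((stk x).obj M))
    { toFun := fun a => (show ↑((ModuleCat.restrictScalars.{u} (φs f x)).obj ((stk x).obj M)) from
        lamAdd f x M a)
      map_add' := fun a b => map_add (lamAdd f x M) a b
      map_smul' := fun r a => lamAdd_smul f x M r a }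

lemma lam_apply (M : X.Modules) (a : St (f x) (pushP f M)) :
    (lam f x M).hom a = lamAdd f x M a := rfl

lemma lam_gm (M : X.Modules) (U : Y.Opens) (hx : f x ∈ U) (s : (pushP f M).obj (op U)) :
    (lam f x M).hom (gm (f x) (pushP f M) U hx s) = gm x (tP M) (f ⁻¹ᵁ U) (memPre hx) (toSec f M U s) :=
  lamAdd_gm f x M U hx s

/-- the morphism of presheaves of modules underlying `φ`. -/
noncomputable abbrev tPMap {M N : X.Modules} (φ : M ⟶ N) : tP M ⟶ tP N := DCoh.toP.map φ

/-- the morphism of presheaves of modules underlying `f_* φ`. -/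
noncomputable abbrev pushPMap {M N : X.Modules} (φ : M ⟶ N) : pushP f M ⟶ pushP f N :=
  DCoh.toP.map ((Scheme.Modules.pushforward f).map φ)

lemma toSec_pushPMap {M N : X.Modules} (φ : M ⟶ N) (U : Y.Opens) (s : (pushP f M).obj (op U)) :
    toSec f N U ((pushPMap f φ).app (op U) s) = (tPMap φ).app (op (f ⁻¹ᵁ U)) (toSec f M U s) := rfl

lemma stk_map_apply {M N : X.Modules} (φ : M ⟶ N) (a : St x (tP M)) :
    ((stk x).map φ).hom a = stMap x (tPMap φ) a := rfl

lemma lam_naturality {M N : X.Modules} (φ : M ⟶ N) :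
    (stk (f x)).map ((Scheme.Modules.pushforward f).map φ) ≫ lam f x N =
      lam f x M ≫ (ModuleCat.restrictScalars.{u} (φs f x)).map ((stk x).map φ) := by
  ext a
  obtain ⟨U, hU, s, rfl⟩ := exists_gm (pushP f M) a
  change (lam f x N).hom (stMap (f x) (pushPMap f φ) (gm (f x) (pushP f M) U hU s)) =
    stMap x (tPMap φ) ((lam f x M).hom (gm (f x) (pushP f M) U hU s))
  rw [stMap_gm, lam_gm, lam_gm, stMap_gm, toSec_pushPMap]

/-- `λ` as a natural transformation. -/
noncomputable def lamNat :
    Scheme.Modules.pushforward f ⋙ stk (f x) ⟶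
      stk x ⋙ ModuleCat.restrictScalars.{u} (φs f x) where
  app M := lam f x M
  naturality _ _ φ := lam_naturality f x φ

end Groth.Agent.Lib.Helper23.CIProj
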