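import Groth.Agent.Lib.Helper23.CIProj.Lam

/-!
# Helper23 — CIProj.LamIso: `λ : (f_* M)_{f x} ⟶ M_x` is an isomorphism for a topological embedding;
the stalks of `f_* M` vanish outside a closed range.
-/

set_option autoImplicit false
universe u
open CategoryTheory CategoryTheory.Limits TopologicalSpace Opposite AlgebraicGeometry

namespace Groth.Agent.Lib.Helper23.CIProj
open Groth.Agent.Lib.Helper16.Stk

variable {X Y : Scheme.{u}} (f : X ⟶ Y) (x : X)

lemma subsingleton_bot (M : X.Modules) : Subsingleton ((tP M).obj (op (⊥ : X.Opens))) := by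
  let F : TopCat.Sheaf Ab.{u} X := ⟨M.val.presheaf, M.isSheaf⟩
  have it : IsTerminal (F.obj.obj (op ⊥)) := F.isTerminalOfEmpty
  exact AddCommGrpCat.subsingleton_of_isZero (IsTerminal.isZero it)

lemma exists_preimage_eq (hf : Topology.IsInducing f.base) (V : X.Opens) :
    ∃ U : Y.Opens, f ⁻¹ᵁ U = V := by
  obtain ⟨t, ht, htV⟩ := hf.isOpen_iff.1 V.isOpen
  exact ⟨⟨t, ht⟩, Opens.ext htV⟩

lemma lamAdd_surjective (hf : Topology.IsInducing f.base) (M : X.Modules) :
    Function.Surjective (lamAdd f x M) := by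
  intro b
  obtain ⟨V, hV, s, rfl⟩ := exists_gm (tP M) b
  obtain ⟨U, hU⟩ := exists_preimage_eq f hf V
  have hxU : f x ∈ U := by
    have : x ∈ f ⁻¹ᵁ U := hU ▸ hV
    exact this
  refine ⟨gm (f x) (pushP f M) U hxU (ofSec f M U (res (tP M) (homOfLE hU.le) s)), ?_⟩
  rw [lamAdd_gm]
  exact gm_res' (tP M) (homOfLE hU.le) (memPre hxU) s

lemma lamAdd_injective (hf : Topology.IsInducing f.base) (M : X.Modules) :
    Function.Injective (lamAdd f x M) := by
  rw [injective_iff_map_eq_zero]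
  intro a ha
  obtain ⟨U, hU, s, rfl⟩ := exists_gm (pushP f M) a
  rw [lamAdd_gm] at ha
  have h0 : gm x (tP M) (f ⁻¹ᵁ U) (memPre hU) (toSec f M U s) =
      gm x (tP M) (f ⁻¹ᵁ U) (memPre hU) 0 := by rw [ha, map_zero]
  obtain ⟨W, hW, iU, iV, h⟩ := gm_eq (tP M) (memPre hU) (memPre hU) _ _ h0
  have h' : res (tP M) iU (toSec f M U s) = 0 :=
    h.trans (map_zero (res (tP M) iV))
  obtain ⟨U', hU'⟩ := exists_preimage_eq f hf W
  have hxU' : f x ∈ U' := by
    have : x ∈ f ⁻¹ᵁ U' := hU' ▸ hW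
    exact this
  have hle : f ⁻¹ᵁ (U ⊓ U') ≤ W := by
    rw [← hU']
    exact (Opens.map f.base).monotone inf_le_right
  have hres : res (pushP f M) (homOfLE (inf_le_left : U ⊓ U' ≤ U)) s = 0 := by
    have h1 : res (tP M) (homOfLE hle) (res (tP M) iU (toSec f M U s)) = 0 := by
      rw [h', map_zero]
    rw [map_map'] at h1
    exact h1
  rw [← gm_res' (pushP f M) (homOfLE (inf_le_left : U ⊓ U' ≤ U)) ⟨hU, hxU'⟩ s, hres, map_zero]

theorem isIso_lam (hf : Topology.IsInducing f.base) (M : X.Modules) : IsIso (lam f x M) := by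
  rw [ConcreteCategory.isIso_iff_bijective]
  exact ⟨lamAdd_injective f x hf M, lamAdd_surjective f x hf M⟩

/-- `λ` is an isomorphism for closed immersions. -/
instance isIso_lam_of_isClosedImmersion [IsClosedImmersion f] (M : X.Modules) :
    IsIso (lam f x M) :=
  isIso_lam f x f.isClosedEmbedding.isInducing M

/-- the stalks of `f_* M` vanish outside a closed range. -/
theorem subsingleton_stalk_push (hf : IsClosed (Set.range f.base)) (M : X.Modules) (y : Y)
    (hy : y ∉ Set.range f.base) : Subsingleton (St y (pushP f M)) := by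
  refine ⟨fun a b => ?_⟩
  suffices h : ∀ c : St y (pushP f M), c = 0 by rw [h a, h b]
  intro c
  obtain ⟨U, hU, s, rfl⟩ := exists_gm (pushP f M) c
  let V : Y.Opens := ⟨(Set.range f.base)ᶜ, hf.isOpen_compl⟩
  have hyV : y ∈ V := hy
  have hbot : f ⁻¹ᵁ (U ⊓ V) = ⊥ := by
    apply le_bot_iff.1
    intro z hz
    exact (hz.2 ⟨z, rfl⟩).elim
  have hres : res (pushP f M) (homOfLE (inf_le_left : U ⊓ V ≤ U)) s = 0 := by
    have hs : Subsingleton ((tP M).obj (op (f ⁻¹ᵁ (U ⊓ V)))) := by
      rw [hbot]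
      exact subsingleton_bot M
    exact hs.elim (α := (tP M).obj (op (f ⁻¹ᵁ (U ⊓ V)))) _ _
  rw [← gm_res' (pushP f M) (homOfLE (inf_le_left : U ⊓ V ≤ U)) ⟨hU, hyV⟩ s, hres, map_zero]

theorem isZero_stk_push (hf : IsClosed (Set.range f.base)) (M : X.Modules) (y : Y)
    (hy : y ∉ Set.range f.base) :
    IsZero ((stk y).obj ((Scheme.Modules.pushforward f).obj M)) := by
  have h : Subsingleton ↑((stk y).obj ((Scheme.Modules.pushforward f).obj M)) :=
    subsingleton_stalk_push f hf M y hy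
  exact ModuleCat.isZero_of_subsingleton _

end Groth.Agent.Lib.Helper23.CIProj
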