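import Groth.Agent.Lib.Helper23.CIProj.EtaTensor

/-!
# Helper23 — CIProj.LaxMon: the lax monoidal structure map `f_* M ⊗ f_* N ⟶ f_* (M ⊗ N)`
-/

set_option autoImplicit false
universe u
open CategoryTheory CategoryTheory.Limits TopologicalSpace Opposite AlgebraicGeometry MonoidalCategory

namespace Groth.Agent.Lib.Helper23.CIProj
open Groth.Agent.Lib.Helper16.Stk

variable {X Y : Scheme.{u}} (f : X ⟶ Y)

/-- the ring map on sections, typed on the rings of the presheaves of modules. -/
noncomputable def φU (U : (Opens Y)ᵒᵖ) :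
    ((Y.sheaf.obj ⋙ forget₂ CommRingCat RingCat.{u}).obj U) →+*
      ((X.sheaf.obj ⋙ forget₂ CommRingCat RingCat.{u}).obj (op (f ⁻¹ᵁ U.unop))) :=
  (f.app U.unop).hom

variable {M N Z : X.Modules}

/-- the components of `pushBil`. -/
noncomputable def pushBilApp (ψ : tP M ⊗ tP N ⟶ tP Z) (U : (Opens Y)ᵒᵖ) :
    (pushP f M ⊗ pushP f N).obj U ⟶ (pushP f Z).obj U :=
  (kappaHom (φU f U) ((tP M).obj (op (f ⁻¹ᵁ U.unop))) ((tP N).obj (op (f ⁻¹ᵁ U.unop))) ≫
    (rs (φU f U)).map (ψ.app (op (f ⁻¹ᵁ U.unop))) :)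

lemma pushBilApp_tm (ψ : tP M ⊗ tP N ⟶ tP Z) (U : Opens Y) (m : (pushP f M).obj (op U))
    (n : (pushP f N).obj (op U)) :
    (pushBilApp f ψ (op U)).hom (tm (pushP f M) (pushP f N) U m n) =
      ofSec f Z U (ψ.app (op (f ⁻¹ᵁ U)) (tm (tP M) (tP N) (f ⁻¹ᵁ U) (toSec f M U m) (toSec f N U n))) :=
  rfl

/-- a bilinear pairing `M ⊗ N ⟶ Z` of presheaves induces a pairing `f_* M ⊗ f_* N ⟶ f_* Z`. -/
noncomputable def pushBil (ψ : tP M ⊗ tP N ⟶ tP Z) : pushP f M ⊗ pushP f N ⟶ pushP f Z where
  app U := pushBilApp f ψ U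
  naturality {U V} i := by
    apply ModuleCat.MonoidalCategory.tensor_ext
    intro m n
    have h := PresheafOfModules.naturality_apply ψ ((Opens.map f.base).op.map i)
      (tm (tP M) (tP N) (f ⁻¹ᵁ U.unop) (toSec f M U.unop m) (toSec f N U.unop n))
    exact h

/-- the tensor product of two modules (short name). -/
noncomputable abbrev tens (A B : X.Modules) : X.Modules := (DCoh.tensorBi.obj A).obj B

/-- the universal pairing `M ⊗ N ⟶ M ⊗ N` (presheaf tensor to sheaf tensor). -/
noncomputable abbrev univ (A B : X.Modules) : tP A ⊗ tP B ⟶ tP (tens A B) :=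
  (adjSh (X := X)).unit.app (tP A ⊗ tP B)

variable (M N) in
/-- **the lax monoidal structure map `f_* M ⊗ f_* N ⟶ f_* (M ⊗ N)`.** -/
noncomputable def lax :
    tens ((Scheme.Modules.pushforward f).obj M) ((Scheme.Modules.pushforward f).obj N) ⟶
      (Scheme.Modules.pushforward f).obj (tens M N) :=
  ((adjSh (X := Y)).homEquiv (pushP f M ⊗ pushP f N)
    ((Scheme.Modules.pushforward f).obj (tens M N))).symm (pushBil f (univ M N))

lemma univ_comp_toP_map_lax :
    univ ((Scheme.Modules.pushforward f).obj M) ((Scheme.Modules.pushforward f).obj N) ≫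
      DCoh.toP.map (lax f M N) = pushBil f (univ M N) := by
  have h := (adjSh (X := Y)).homEquiv_unit (X := pushP f M ⊗ pushP f N)
    (Y := (Scheme.Modules.pushforward f).obj (tens M N)) (f := lax f M N)
  have h2 : (adjSh (X := Y)).homEquiv (pushP f M ⊗ pushP f N)
      ((Scheme.Modules.pushforward f).obj (tens M N)) (lax f M N) = pushBil f (univ M N) :=
    Equiv.apply_symm_apply _ _
  exact h.symm.trans h2

lemma stalkTensorIso_hom_tmul (x : X) (A B : X.Modules) (U : X.Opens) (hx : x ∈ U)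
    (a : (tP A).obj (op U)) (b : (tP B).obj (op U)) :
    (stalkTensorIso x A B).hom (gm x (tP A) U hx a ⊗ₜ gm x (tP B) U hx b) =
      gm x (tP (tens A B)) U hx ((univ A B).app (op U) (tm (tP A) (tP B) U a b)) := by
  change stMap x (univ A B) ((pstalkTensorIso x (tP A) (tP B)).hom
    (gm x (tP A) U hx a ⊗ₜ gm x (tP B) U hx b)) = _
  rw [pstalkTensorIso_hom_tmul, stMap_gm]

lemma toP_map_lax_univ (U : Opens Y) (m : (pushP f M).obj (op U)) (n : (pushP f N).obj (op U)) :
    (tPMap (lax f M N)).app (op U)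
      ((univ ((Scheme.Modules.pushforward f).obj M) ((Scheme.Modules.pushforward f).obj N)).app (op U)
        (tm (pushP f M) (pushP f N) U m n)) =
      ofSec f (tens M N) U ((univ M N).app (op (f ⁻¹ᵁ U))
        (tm (tP M) (tP N) (f ⁻¹ᵁ U) (toSec f M U m) (toSec f N U n))) := by
  have h := congr_arg (fun ψ => (ψ.app (op U)).hom (tm (pushP f M) (pushP f N) U m n))
    (univ_comp_toP_map_lax f (M := M) (N := N))
  exact h.trans (pushBilApp_tm f (univ M N) U m n)

/-- the lax structure map on stalks at `f x`. -/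
theorem stk_lax_diagram (x : X) :
    (stalkTensorIso (f x) ((Scheme.Modules.pushforward f).obj M)
        ((Scheme.Modules.pushforward f).obj N)).hom ≫
      (stk (f x)).map (lax f M N) ≫ lam f x (tens M N) =
    (lam f x M ⊗ₘ lam f x N) ≫ kappaHom (φs f x) ((stk x).obj M) ((stk x).obj N) ≫
      (rs (φs f x)).map (stalkTensorIso x M N).hom := by
  apply ModuleCat.MonoidalCategory.tensor_ext
  intro a b
  obtain ⟨U, hU, m, n, rfl, rfl⟩ := exists_gm₂ (pushP f M) (pushP f N) a b
  change (lam f x (tens M N)).hom (stMap (f x) (tPMap (lax f M N))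
      ((stalkTensorIso (f x) ((Scheme.Modules.pushforward f).obj M)
        ((Scheme.Modules.pushforward f).obj N)).hom
        (gm (f x) (pushP f M) U hU m ⊗ₜ gm (f x) (pushP f N) U hU n))) =
    (stalkTensorIso x M N).hom
      ((lam f x M).hom (gm (f x) (pushP f M) U hU m) ⊗ₜ[X.presheaf.stalk x]
        (lam f x N).hom (gm (f x) (pushP f N) U hU n))
  rw [stalkTensorIso_hom_tmul, stMap_gm, toP_map_lax_univ, lam_gm, lam_gm, lam_gm,
    stalkTensorIso_hom_tmul]
  rfl

/-- **the lax monoidal structure map of a closed immersion is an isomorphism**: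
`f_* M ⊗ f_* N ≅ f_* (M ⊗ N)`. -/
instance isIso_lax [IsClosedImmersion f] : IsIso (lax f M N) := by
  apply isIso_of_forall_stalk
  intro y
  by_cases hy : y ∈ Set.range f.base
  · obtain ⟨x, rfl⟩ := hy
    have h := stk_lax_diagram f (M := M) (N := N) x
    haveI := isIso_kappaHom (φs f x) (surjective_φs f x) ((stk x).obj M) ((stk x).obj N)
    have e : (stk (f x)).map (lax f M N) =
        (stalkTensorIso (f x) ((Scheme.Modules.pushforward f).obj M)
          ((Scheme.Modules.pushforward f).obj N)).inv ≫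
        ((lam f x M ⊗ₘ lam f x N) ≫ kappaHom (φs f x) ((stk x).obj M) ((stk x).obj N) ≫
          (rs (φs f x)).map (stalkTensorIso x M N).hom) ≫ inv (lam f x (tens M N)) := by
      rw [← h]
      simp
    rw [e]
    infer_instance
  · refine isIso_of_isZero _ ?_ (isZero_stk_push f (isClosed_range f) _ y hy)
    exact IsZero.of_iso (isZero_tensor_right _ (isZero_stk_push f (isClosed_range f) N y hy))
      (stalkTensorIso y _ _).symm

end Groth.Agent.Lib.Helper23.CIProj
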