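import Groth.Agent.Lib.Helper23.CIProj.LaxMon

/-!
# Helper23 — CIProj.LaxNat: naturality of `lax`, and the projection formula
-/

set_option autoImplicit false
universe u
open CategoryTheory CategoryTheory.Limits TopologicalSpace Opposite AlgebraicGeometry MonoidalCategory

namespace Groth.Agent.Lib.Helper23.CIProj
open Groth.Agent.Lib.Helper16.Stk

variable {X Y : Scheme.{u}} (f : X ⟶ Y)

variable {M M' N N' Z Z' : X.Modules}

lemma pushBil_comp (ψ : tP M ⊗ tP N ⟶ tP Z) (h : Z ⟶ Z') :
    pushBil f (ψ ≫ tPMap h) = pushBil f ψ ≫ pushPMap f h := by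
  ext1 U
  apply ModuleCat.MonoidalCategory.tensor_ext
  intro m n
  rfl

lemma whiskerRight_pushBil (g : M ⟶ M') (ψ : tP M' ⊗ tP N ⟶ tP Z) :
    (pushPMap f g ▷ pushP f N) ≫ pushBil f ψ = pushBil f ((tPMap g ▷ tP N) ≫ ψ) := by
  ext1 U
  apply ModuleCat.MonoidalCategory.tensor_ext
  intro m n
  rfl

lemma whiskerLeft_pushBil (g : N ⟶ N') (ψ : tP M ⊗ tP N' ⟶ tP Z) :
    (pushP f M ◁ pushPMap f g) ≫ pushBil f ψ = pushBil f ((tP M ◁ tPMap g) ≫ ψ) := by
  ext1 U
  apply ModuleCat.MonoidalCategory.tensor_ext
  intro m n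
  rfl

lemma univ_natL (g : M ⟶ M') (N : X.Modules) :
    (tPMap g ▷ tP N) ≫ univ M' N = univ M N ≫ tPMap ((DCoh.tensorBi.map g).app N) :=
  (adjSh (X := X)).unit.naturality (tPMap g ▷ tP N)

lemma univ_natR (M : X.Modules) (g : N ⟶ N') :
    (tP M ◁ tPMap g) ≫ univ M N' = univ M N ≫ tPMap ((DCoh.tensorBi.obj M).map g) :=
  (adjSh (X := X)).unit.naturality (tP M ◁ tPMap g)

/-- `lax` is natural in the first variable. -/
theorem lax_natL (g : M ⟶ M') (N : X.Modules) :
    (DCoh.tensorBi.map ((Scheme.Modules.pushforward f).map g)).app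
        ((Scheme.Modules.pushforward f).obj N) ≫ lax f M' N =
      lax f M N ≫ (Scheme.Modules.pushforward f).map ((DCoh.tensorBi.map g).app N) := by
  apply ((adjSh (X := Y)).homEquiv (pushP f M ⊗ pushP f N) _).injective
  refine ((adjSh (X := Y)).homEquiv_unit ..).trans (Eq.trans ?_ ((adjSh (X := Y)).homEquiv_unit ..).symm)
  have h1 := univ_natL ((Scheme.Modules.pushforward f).map g) ((Scheme.Modules.pushforward f).obj N)
  have h2 := univ_comp_toP_map_lax f (M := M') (N := N)
  have h3 := univ_comp_toP_map_lax f (M := M) (N := N)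
  calc univ ((Scheme.Modules.pushforward f).obj M) ((Scheme.Modules.pushforward f).obj N) ≫
        DCoh.toP.map ((DCoh.tensorBi.map ((Scheme.Modules.pushforward f).map g)).app
          ((Scheme.Modules.pushforward f).obj N) ≫ lax f M' N)
      = (pushPMap f g ▷ pushP f N) ≫ pushBil f (univ M' N) := by
        rw [← h2, Functor.map_comp]; exact (reassoc_of% h1.symm) _
    _ = pushBil f (univ M N ≫ tPMap ((DCoh.tensorBi.map g).app N)) := by
        rw [whiskerRight_pushBil, univ_natL]
    _ = univ ((Scheme.Modules.pushforward f).obj M) ((Scheme.Modules.pushforward f).obj N) ≫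
        DCoh.toP.map (lax f M N ≫
          (Scheme.Modules.pushforward f).map ((DCoh.tensorBi.map g).app N)) := by
        rw [pushBil_comp, ← h3, Functor.map_comp]; exact Category.assoc _ _ _

/-- `lax` is natural in the second variable. -/
theorem lax_natR (M : X.Modules) (g : N ⟶ N') :
    (DCoh.tensorBi.obj ((Scheme.Modules.pushforward f).obj M)).map
        ((Scheme.Modules.pushforward f).map g) ≫ lax f M N' =
      lax f M N ≫ (Scheme.Modules.pushforward f).map ((DCoh.tensorBi.obj M).map g) := by
  apply ((adjSh (X := Y)).homEquiv (pushP f M ⊗ pushP f N) _).injective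
  refine ((adjSh (X := Y)).homEquiv_unit ..).trans (Eq.trans ?_ ((adjSh (X := Y)).homEquiv_unit ..).symm)
  have h1 := univ_natR ((Scheme.Modules.pushforward f).obj M) ((Scheme.Modules.pushforward f).map g)
  have h2 := univ_comp_toP_map_lax f (M := M) (N := N')
  have h3 := univ_comp_toP_map_lax f (M := M) (N := N)
  calc univ ((Scheme.Modules.pushforward f).obj M) ((Scheme.Modules.pushforward f).obj N) ≫
        DCoh.toP.map ((DCoh.tensorBi.obj ((Scheme.Modules.pushforward f).obj M)).map
          ((Scheme.Modules.pushforward f).map g) ≫ lax f M N')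
      = (pushP f M ◁ pushPMap f g) ≫ pushBil f (univ M N') := by
        rw [← h2, Functor.map_comp]; exact (reassoc_of% h1.symm) _
    _ = pushBil f (univ M N ≫ tPMap ((DCoh.tensorBi.obj M).map g)) := by
        rw [whiskerLeft_pushBil, univ_natR]
    _ = univ ((Scheme.Modules.pushforward f).obj M) ((Scheme.Modules.pushforward f).obj N) ≫
        DCoh.toP.map (lax f M N ≫
          (Scheme.Modules.pushforward f).map ((DCoh.tensorBi.obj M).map g)) := by
        rw [pushBil_comp, ← h3, Functor.map_comp]; exact Category.assoc _ _ _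

end Groth.Agent.Lib.Helper23.CIProj
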